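import Cfsg.Agent.Lib.Comp.McLy.Base

set_option maxRecDepth 100000
set_option Elab.async false

namespace Cfsg.Lib.Comp.McLy

universe u

noncomputable def T2_R : List (List ℕ × ℕ) := [([3],2),
 ([1],3),
 ([1,3,2,3],0),
 ([5],1),
 ([1,5],1),
 ([3,5,3,5,4,5,4,5],0),
 ([6],1),
 ([1,6],1),
 ([5,6],1),
 ([3,6],5),
 ([3,6,4,5],2),
 ([1,1,6,4,5,4,6,4,5,4,6,4,5,4],0),
 ([1,2],0),
 ([3,4],0)]

noncomputable def T2_n_1 : Net :=
 (Net.cons 4 (nat_lit 0x400)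
 (Net.cons 2 (nat_lit 0x2000)
 (Net.cons 1 (nat_lit 0x4004)
 (Net.cons 2 (nat_lit 0x2230)
 (Net.cons 4 (nat_lit 0x500)
 Net.nil)))))

noncomputable def T2_n_3 : Net :=
 (Net.cons 8 (nat_lit 0x72)
 (Net.cons 4 (nat_lit 0x402)
 (Net.cons 2 (nat_lit 0x22)
 (Net.cons 1 (nat_lit 0x544)
 (Net.cons 2 (nat_lit 0x130)
 (Net.cons 4 (nat_lit 0x100)
 (Net.cons 8 (nat_lit 0x24)
 Net.nil)))))))

noncomputable def T2_n_5 : Net :=
 (Net.cons 8 (nat_lit 0x20)
 (Net.cons 4 (nat_lit 0x804)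
 (Net.cons 2 (nat_lit 0x2000)
 (Net.cons 1 (nat_lit 0x4404)
 (Net.cons 2 (nat_lit 0x230)
 (Net.cons 4 (nat_lit 0x604)
 (Net.cons 8 (nat_lit 0x20)
 Net.nil)))))))

noncomputable def T2_n_6 : Net :=
 (Net.cons 8 (nat_lit 0x24)
 (Net.cons 4 (nat_lit 0x402)
 (Net.cons 2 (nat_lit 0x2020)
 (Net.cons 1 (nat_lit 0x4041)
 (Net.cons 2 (nat_lit 0x2031)
 (Net.cons 4 (nat_lit 0x50d)
 (Net.cons 8 (nat_lit 0x24)
 Net.nil)))))))

noncomputable def T2_n : List Net := [Net.nil,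
 T2_n_1,
 Net.rev T2_n_1,
 T2_n_3,
 Net.rev T2_n_3,
 T2_n_5,
 T2_n_6]

theorem T2_n_ok : NetsOK 16 T2_n := netsOK_of (by decide +kernel)

theorem T2_n_rel : Rels (gp T2_n) T2_R := rels_of_relsB (k := 4) T2_n_ok (by norm_num) (by decide +kernel)

noncomputable def T2_b0h : ℕ := (nat_lit 0x4000007000007000000001100000700000000070000100005000011000013000300000a000013000400001000001100030000070000110004000007000010)

noncomputable def T2_b0c : List ℕ := [(nat_lit 0x500001900b70200001500000300001500000900b60400000900001100000f00000c00000200000200000800000a00000800000c00000800000a00000800000c008a0e00000f00000c00000600000a00000800000c00000600000a00000800000c00000500640b000000000007000001000402000000000000000008)]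

theorem T2_fin : finB 16 T2_n [1,2,3,4,5,6] 16 (runH 16 T2_n (tbk 4 4 prs4 T2_n 16) iv T2_R [] ([1,2,3,4,5].map fun x => [x]) 0 [(fun t => look T2_b0h 64 t, T2_b0c)]
  [1,5,9,13,17,12,24,28,32,48,52,0,8,16,20,28,40,48,52,8,16,28,32,48,8,28,48,44,24,2,20,40,52,0,8,16,20,36,40,48]
  (defsH 16 T2_n (ones 144) [6,3,4,5,6,3,4,5] (Nat.shiftLeft 1 0) 0)) = true := by decide +kernel

theorem T2_idx : Idx.{u} iv (T2_R ++ []) ([1,2,3,4,5].map fun x => [x]) [1,2,3,4,5,6] 16 :=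
  Reach.idx T2_n_ok (reach_runH T2_n_ok (tbk_eq tr4 (by norm_num) (by norm_num) (by norm_num) T2_n_ok) T2_n_rel (reach_defsH T2_n_ok _ _ _ _ _ _) _ _) T2_fin (by norm_num)

end Cfsg.Lib.Comp.McLy
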