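import Cfsg.Agent.Lib.Comp.McLy.Base

set_option maxRecDepth 100000
set_option Elab.async false

namespace Cfsg.Lib.Comp.McLy

universe u

noncomputable def T3_R : List (List ℕ × ℕ) := [([3],2),
 ([1],3),
 ([1,3,2,3],0),
 ([5],1),
 ([1,5],1),
 ([3,5,3,5,4,5,4,5],0),
 ([1,2],0),
 ([3,4],0)]

noncomputable def T3_n_1 : Net :=
 (Net.cons 3 (nat_lit 0x6)
 (Net.cons 1 (nat_lit 0x8)
 (Net.cons 1 (nat_lit 0x12)
 (Net.cons 1 (nat_lit 0x8)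
 (Net.cons 3 (nat_lit 0x6)
 Net.nil)))))

noncomputable def T3_n_3 : Net :=
 (Net.cons 3 (nat_lit 0x6)
 (Net.cons 1 (nat_lit 0x10)
 (Net.cons 1 (nat_lit 0x8)
 (Net.cons 3 (nat_lit 0x6)
 Net.nil))))

noncomputable def T3_n_5 : Net :=
 (Net.cons 3 (nat_lit 0x6)
 (Net.cons 1 (nat_lit 0x8)
 (Net.cons 1 (nat_lit 0x12)
 (Net.cons 1 (nat_lit 0x1)
 (Net.cons 3 (nat_lit 0x1)
 Net.nil)))))

noncomputable def T3_n : List Net := [Net.nil,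
 T3_n_1,
 Net.rev T3_n_1,
 T3_n_3,
 Net.rev T3_n_3,
 T3_n_5]

theorem T3_n_ok : NetsOK 6 T3_n := netsOK_of (by decide +kernel)

theorem T3_n_rel : Rels (gp T3_n) T3_R := rels_of_relsB (k := 3) T3_n_ok (by norm_num) (by decide +kernel)

theorem T3_fin : finB 6 T3_n [1,2,3,4,5] 6 (runH 6 T3_n (fun x p => ptInv (nth Net.nil T3_n x) p) iv T3_R [] ([1,2,3,4].map fun x => [x]) 0 []
  [1,5,9,13,12,16,24,28,0,8,16,20,24,28,16,24]
  (defsH 6 T3_n (ones 54) [5,3,4,5] (Nat.shiftLeft 1 0) 0)) = true := by decide +kernel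

theorem T3_idx : Idx.{u} iv (T3_R ++ []) ([1,2,3,4].map fun x => [x]) [1,2,3,4,5] 6 :=
  Reach.idx T3_n_ok (reach_runH T3_n_ok (fun x p _ => ptInv_gp T3_n_ok x p) T3_n_rel (reach_defsH T3_n_ok _ _ _ _ _ _) _ _) T3_fin (by norm_num)

end Cfsg.Lib.Comp.McLy
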