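import Cfsg.Agent.Lib.Comp.McLy.Perm
import Cfsg.Agent.Lib.Comp.PermGrp
import Cfsg.Agent.Lib.Comp.Bridge2
import Cfsg.Agent.Lib.Comp.McLy.T0
import Cfsg.Agent.Lib.Comp.McLy.T1
import Cfsg.Agent.Lib.Comp.McLy.T2
import Cfsg.Agent.Lib.Comp.McLy.T3
import Cfsg.Agent.Lib.Comp.McLy.T4
import Cfsg.Agent.Lib.Comp.Out
import Cfsg.Agent.Lib.Leech.PermMcL

set_option maxRecDepth 100000
set_option Elab.async false

namespace Cfsg.Lib.Comp.McLy

universe u

theorem T4_ord : Ord.{u} iv T4_R [1,2,3,4] 12 :=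
  (T4_idx.ord_base).of_cons (cons_of_subset (by decide +kernel))

theorem T3_ord : Ord.{u} iv T3_R [1,2,3,4,5] 72 :=
  (T3_idx.ord_step T4_ord).of_cons (cons_of_subset (by decide +kernel))

theorem T2_ord : Ord.{u} iv T2_R [1,2,3,4,5,6] 1152 :=
  (T2_idx.ord_step T3_ord).of_cons (cons_of_subset (by decide +kernel))

theorem T1_ord : Ord.{u} iv T1_R [1,2,3,4,5,6,7] 3265920 :=
  (T1_idx.ord_step T2_ord).of_cons (cons_of_subset (by decide +kernel))

theorem T0_ord : Ord.{u} iv T0_R [1,2,3,4,5,6,7,8] 898128000 :=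
  (T0_idx.ord_step T1_ord).of_cons (cons_of_subset (by decide +kernel))

theorem ord : Ord.{u} iv R L 898128000 := T0_ord.of_cons (cons_of_subset (by decide +kernel))

theorem card : Nat.card (cl (gp nets) L) = 898128000 := card_of_ord ord nets_iv nets_rel lb

noncomputable def lpi : Net :=
 (Net.cons 160 (nat_lit 0xd1df385d8986e7be015bb6687c287d7de4772092)
 (Net.cons 80 (nat_lit 0x29b5bd37b937e680dcd60000000000000000000006d9330366637d4fad90)
 (Net.cons 40 (nat_lit 0xd089350734000000000059f6d886740000000000533101fd740000000000a05c958d84)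
 (Net.cons 20 (nat_lit 0xbe06800000f8b4400000823d600000205aa0000020d3200000a4ce00000022b50000001e490)
 (Net.cons 10 (nat_lit 0x360011c001f40039800334002b200148003500034800302002780002800168002ae0024400324)
 (Net.cons 5 (nat_lit 0x200201004010000081802008060140100c030080780204814020060100603812000040680001012)
 (Net.cons 1 (nat_lit 0x280850140121020014a109020080a5214052900020425214802800521425014a4200052942009084)
 (Net.cons 1 (nat_lit 0x1290a12042129425294a528421094a128401094a1284a12940501421084a5204a408421294252840)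
 (Net.cons 1 (nat_lit 0x2908428081294a42048421024284a421400090a5014a529000200a521405280a42100129484290a0)
 (Net.cons 1 (nat_lit 0x4284a101004094850148520004014002000001400204a52800101400280010002020001294050900)
 (Net.cons 1 (nat_lit 0x100000000a000000080000000000000000200000400400000200000000000000000142000000)
 (Net.cons 5 (nat_lit 0x600605c000100702008064150201a0200003c0b0580c00414060030301d05c0703408040140400b)
 (Net.cons 10 (nat_lit 0x360027c0017f0019200232002340015c003140024000204000500007b0019500342000ce00112)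
 (Net.cons 20 (nat_lit 0xbef61000001db160000083eac0000074869000004b620000008ed40000005aa110000026e82)
 (Net.cons 40 (nat_lit 0x4177812d2c000000000019e2b042730000000000575027fe260000000000c35e50b50a)
 (Net.cons 80 (nat_lit 0xa83d853239b38e030889000000000000000000002af976036428f8f23380)
 (Net.cons 160 (nat_lit 0xd1df385d89852a11f26104ff8fd4eeff3c888c89)
 Net.nil)))))))))))))))))

theorem lpi_ok : lpi.ok 320 := ok_of_netOK (by decide +kernel)

theorem l_m1 : gp nets 1 ∈ (cl (gp Leech.PMcL.nets) Leech.PMcL.L).map (MulAut.conj lpi.perm).toMonoidHom :=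
  mem_conj_of_eqB (k := 9) (w := [78,76,71,73,69,72,66,73,1,74]) Leech.PMcL.nets_ok (by norm_num) lpi_ok (nets_ok 1)
    (fun _ h => cl_eq_of_slpB Leech.PMcL.nets_ok (by norm_num) Leech.PMcL.slp_ok ▸ mem_cl h) (by decide +kernel)

theorem l_m2 : gp nets 2 ∈ (cl (gp Leech.PMcL.nets) Leech.PMcL.L).map (MulAut.conj lpi.perm).toMonoidHom :=
  mem_conj_of_eqB (k := 9) (w := [75,78,74,67,69,68,65,71,67,1,69,68]) Leech.PMcL.nets_ok (by norm_num) lpi_ok (nets_ok 2)
    (fun _ h => cl_eq_of_slpB Leech.PMcL.nets_ok (by norm_num) Leech.PMcL.slp_ok ▸ mem_cl h) (by decide +kernel)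

theorem l_m3 : gp nets 3 ∈ (cl (gp Leech.PMcL.nets) Leech.PMcL.L).map (MulAut.conj lpi.perm).toMonoidHom :=
  mem_conj_of_eqB (k := 9) (w := [77,73,77,68,72,68,64,70,77,1,2,66,68]) Leech.PMcL.nets_ok (by norm_num) lpi_ok (nets_ok 3)
    (fun _ h => cl_eq_of_slpB Leech.PMcL.nets_ok (by norm_num) Leech.PMcL.slp_ok ▸ mem_cl h) (by decide +kernel)

theorem l_m4 : gp nets 4 ∈ (cl (gp Leech.PMcL.nets) Leech.PMcL.L).map (MulAut.conj lpi.perm).toMonoidHom :=
  mem_conj_of_eqB (k := 9) (w := [77,71,74,67,67,70,67,65,68,74,3,1,74]) Leech.PMcL.nets_ok (by norm_num) lpi_ok (nets_ok 4)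
    (fun _ h => cl_eq_of_slpB Leech.PMcL.nets_ok (by norm_num) Leech.PMcL.slp_ok ▸ mem_cl h) (by decide +kernel)

theorem l_m5 : gp nets 5 ∈ (cl (gp Leech.PMcL.nets) Leech.PMcL.L).map (MulAut.conj lpi.perm).toMonoidHom :=
  mem_conj_of_eqB (k := 9) (w := [73,72,69,67,69,64,69,66,3,64]) Leech.PMcL.nets_ok (by norm_num) lpi_ok (nets_ok 5)
    (fun _ h => cl_eq_of_slpB Leech.PMcL.nets_ok (by norm_num) Leech.PMcL.slp_ok ▸ mem_cl h) (by decide +kernel)

theorem l_m6 : gp nets 6 ∈ (cl (gp Leech.PMcL.nets) Leech.PMcL.L).map (MulAut.conj lpi.perm).toMonoidHom :=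
  mem_conj_of_eqB (k := 9) (w := [78,76,71,68,70,75,65,70,70,2,66,77]) Leech.PMcL.nets_ok (by norm_num) lpi_ok (nets_ok 6)
    (fun _ h => cl_eq_of_slpB Leech.PMcL.nets_ok (by norm_num) Leech.PMcL.slp_ok ▸ mem_cl h) (by decide +kernel)

theorem l_m7 : gp nets 7 ∈ (cl (gp Leech.PMcL.nets) Leech.PMcL.L).map (MulAut.conj lpi.perm).toMonoidHom :=
  mem_conj_of_eqB (k := 9) (w := [77,75,78,69,68,64,70,3,70,74]) Leech.PMcL.nets_ok (by norm_num) lpi_ok (nets_ok 7)
    (fun _ h => cl_eq_of_slpB Leech.PMcL.nets_ok (by norm_num) Leech.PMcL.slp_ok ▸ mem_cl h) (by decide +kernel)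

theorem l_m8 : gp nets 8 ∈ (cl (gp Leech.PMcL.nets) Leech.PMcL.L).map (MulAut.conj lpi.perm).toMonoidHom :=
  mem_conj_of_eqB (k := 9) (w := [78,71,77,68,70,67,66,70,77,2,74]) Leech.PMcL.nets_ok (by norm_num) lpi_ok (nets_ok 8)
    (fun _ h => cl_eq_of_slpB Leech.PMcL.nets_ok (by norm_num) Leech.PMcL.slp_ok ▸ mem_cl h) (by decide +kernel)

theorem perm : Nonempty (Spor.McL ≃* cl (gp nets) L) := by
  obtain ⟨e⟩ := Leech.PMcL.perm
  have := Leech.PMcL.nets_ok.finite Leech.PMcL.L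
  obtain ⟨φ, h1, h2⟩ := relabel e lpi.perm (G' := cl (gp nets) L)
    (cl_le.2 (by unfold L; simp only [List.forall_mem_cons]; exact ⟨l_m1, l_m2, l_m3, l_m4, l_m5, l_m6, l_m7, l_m8, by simp⟩)) (Leech.PMcL.card.trans_le lb)
  exact ⟨(MonoidHom.ofInjective h1).trans (MulEquiv.subgroupCongr h2)⟩

end Cfsg.Lib.Comp.McLy
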