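import Cfsg.Agent.Lib.Comp.McLy.Base

set_option maxRecDepth 100000
set_option Elab.async false

namespace Cfsg.Lib.Comp.McLy

universe u

noncomputable def MuH0_1_R : List (List ℕ × ℕ) := [([1],3),
 ([1,2],0)]

noncomputable def MuH0_1_n_1 : Net :=
 (Net.cons 2 (nat_lit 0x2)
 (Net.cons 1 (nat_lit 0x1)
 (Net.cons 2 (nat_lit 0x1)
 Net.nil)))

noncomputable def MuH0_1_n : List Net := [Net.nil,
 MuH0_1_n_1,
 Net.rev MuH0_1_n_1]

theorem MuH0_1_n_ok : NetsOK 4 MuH0_1_n := netsOK_of (by decide +kernel)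

theorem MuH0_1_n_rel : Rels (gp MuH0_1_n) MuH0_1_R := rels_of_relsB (k := 2) MuH0_1_n_ok (by norm_num) (by decide +kernel)

theorem MuH0_1_fin : finB 4 MuH0_1_n [1,2] 4 (runH 4 MuH0_1_n (fun x p => ptInv (nth Net.nil MuH0_1_n x) p) iv MuH0_1_R [] ([].map fun x => [x]) 0 []
  [4,0,4]
  (defsH 4 MuH0_1_n (ones 36) [1,2,1] (Nat.shiftLeft 1 0) 0)) = true := by decide +kernel

theorem MuH0_1_idx : Idx.{u} iv (MuH0_1_R ++ []) ([].map fun x => [x]) [1,2] 4 :=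
  Reach.idx MuH0_1_n_ok (reach_runH MuH0_1_n_ok (fun x p _ => ptInv_gp MuH0_1_n_ok x p) MuH0_1_n_rel (reach_defsH MuH0_1_n_ok _ _ _ _ _ _) _ _) MuH0_1_fin (by norm_num)

end Cfsg.Lib.Comp.McLy
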