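import Cfsg.Agent.Lib.Comp.McLy.Base

set_option maxRecDepth 100000
set_option Elab.async false

namespace Cfsg.Lib.Comp.McLy

universe u

noncomputable def MuH3_2_R : List (List ℕ × ℕ) := [([3],2),
 ([1],3),
 ([1,3,2,3],0),
 ([5],1),
 ([1,5],1),
 ([3,5,3,5,4,5,4,5],0),
 ([1,2],0),
 ([3,4],0)]

noncomputable def MuH3_2_n_1 : Net :=
 (Net.cons 2 (nat_lit 0x2)
 (Net.cons 1 (nat_lit 0x1)
 (Net.cons 2 (nat_lit 0x1)
 Net.nil)))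

noncomputable def MuH3_2_n_5 : Net :=
 (Net.cons 2 (nat_lit 0x2)
 (Net.cons 1 (nat_lit 0x4)
 (Net.cons 2 (nat_lit 0x2)
 Net.nil)))

noncomputable def MuH3_2_n : List Net := [Net.nil,
 MuH3_2_n_1,
 Net.rev MuH3_2_n_1,
 Net.nil,
 Net.nil,
 MuH3_2_n_5]

theorem MuH3_2_n_ok : NetsOK 4 MuH3_2_n := netsOK_of (by decide +kernel)

theorem MuH3_2_n_rel : Rels (gp MuH3_2_n) MuH3_2_R := rels_of_relsB (k := 2) MuH3_2_n_ok (by norm_num) (by decide +kernel)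

theorem MuH3_2_fin : finB 4 MuH3_2_n [1,2,3,4,5] 4 (runH 4 MuH3_2_n (fun x p => ptInv (nth Net.nil MuH3_2_n x) p) iv MuH3_2_R [] ([3,4,5].map fun x => [x]) 0 []
  [1,5,9,24,4,8,16,24,28,8,12,16,28]
  (defsH 4 MuH3_2_n (ones 36) [1,2,1] (Nat.shiftLeft 1 0) 0)) = true := by decide +kernel

theorem MuH3_2_idx : Idx.{u} iv (MuH3_2_R ++ []) ([3,4,5].map fun x => [x]) [1,2,3,4,5] 4 :=
  Reach.idx MuH3_2_n_ok (reach_runH MuH3_2_n_ok (fun x p _ => ptInv_gp MuH3_2_n_ok x p) MuH3_2_n_rel (reach_defsH MuH3_2_n_ok _ _ _ _ _ _) _ _) MuH3_2_fin (by norm_num)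

end Cfsg.Lib.Comp.McLy
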