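import Cfsg.Agent.Lib.Comp.McLy.Base

set_option maxRecDepth 100000
set_option Elab.async false

namespace Cfsg.Lib.Comp.McLy

universe u

noncomputable def MuH4_0_R : List (List ℕ × ℕ) := [([1],3),
 ([5],1),
 ([1,5],1),
 ([7],1),
 ([5,7],1),
 ([1,7],3),
 ([1,1,7,2,7,1,7,1,7,2,7],0),
 ([8],1),
 ([1,8],1),
 ([5,8],1),
 ([7,8],2),
 ([1,7,2,7,8,7,1,7,2,7,8,7,1,7,8],0),
 ([1,2],0)]

noncomputable def MuH4_0_n_5 : Net :=
 (Net.cons 1 (nat_lit 0x1)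
 Net.nil)

noncomputable def MuH4_0_n : List Net := [Net.nil,
 Net.nil,
 Net.nil,
 Net.nil,
 Net.nil,
 MuH4_0_n_5]

theorem MuH4_0_n_ok : NetsOK 2 MuH4_0_n := netsOK_of (by decide +kernel)

theorem MuH4_0_n_rel : Rels (gp MuH4_0_n) MuH4_0_R := rels_of_relsB (k := 1) MuH4_0_n_ok (by norm_num) (by decide +kernel)

theorem MuH4_0_fin : finB 2 MuH4_0_n [1,2,5,7,8] 2 (runH 2 MuH4_0_n (fun x p => ptInv (nth Net.nil MuH4_0_n x) p) iv MuH4_0_R [] ([1,2,7,8].map fun x => [x]) 0 []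
  [1,5,9,13,4,8,16,36,48]
  (defsH 2 MuH4_0_n (ones 18) [5] (Nat.shiftLeft 1 0) 0)) = true := by decide +kernel

theorem MuH4_0_idx : Idx.{u} iv (MuH4_0_R ++ []) ([1,2,7,8].map fun x => [x]) [1,2,5,7,8] 2 :=
  Reach.idx MuH4_0_n_ok (reach_runH MuH4_0_n_ok (fun x p _ => ptInv_gp MuH4_0_n_ok x p) MuH4_0_n_rel (reach_defsH MuH4_0_n_ok _ _ _ _ _ _) _ _) MuH4_0_fin (by norm_num)

end Cfsg.Lib.Comp.McLy
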