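import Cfsg.Agent.Lib.Comp.McLy.MuH0_0
import Cfsg.Agent.Lib.Comp.McLy.MuH0_1
import Cfsg.Agent.Lib.Comp.McLy.MuH1_0
import Cfsg.Agent.Lib.Comp.McLy.MuH1_1
import Cfsg.Agent.Lib.Comp.McLy.MuH1_2
import Cfsg.Agent.Lib.Comp.McLy.MuH2_0
import Cfsg.Agent.Lib.Comp.McLy.MuH2_1
import Cfsg.Agent.Lib.Comp.McLy.MuH2_2
import Cfsg.Agent.Lib.Comp.McLy.MuH3_0
import Cfsg.Agent.Lib.Comp.McLy.MuH3_1
import Cfsg.Agent.Lib.Comp.McLy.MuH3_2
import Cfsg.Agent.Lib.Comp.McLy.MuH3_3
import Cfsg.Agent.Lib.Comp.McLy.MuH3_4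
import Cfsg.Agent.Lib.Comp.McLy.MuH4_0
import Cfsg.Agent.Lib.Comp.McLy.MuH4_1
import Cfsg.Agent.Lib.Comp.McLy.MuH4_2
import Cfsg.Agent.Lib.Comp.McLy.MuH4_3
import Cfsg.Agent.Lib.Comp.McLy.Mu0
import Cfsg.Agent.Lib.Comp.McLy.Main
import Cfsg.Agent.Lib.Comp.Cover

set_option maxRecDepth 100000
set_option Elab.async false

namespace Cfsg.Lib.Comp.McLy

universe u

theorem MuH0_1_ord : Ord.{u} iv MuH0_1_R [1,2] 4 :=
  (MuH0_1_idx.ord_base).of_cons (cons_of_subset (by decide +kernel))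

theorem MuH0_0_ord : Ord.{u} iv MuH0_0_R [1,2,3,4] 12 :=
  (MuH0_0_idx.ord_step MuH0_1_ord).of_cons (cons_of_subset (by decide +kernel))

noncomputable def MuH0_lb_n_1 : Net :=
 (Net.cons 6 (nat_lit 0xc)
 (Net.cons 3 (nat_lit 0x6)
 (Net.cons 1 (nat_lit 0x241)
 (Net.cons 1 (nat_lit 0x90)
 (Net.cons 1 (nat_lit 0x40)
 (Net.cons 3 (nat_lit 0x180)
 (Net.cons 6 (nat_lit 0x1)
 Net.nil)))))))

noncomputable def MuH0_lb_n_3 : Net :=
 (Net.cons 6 (nat_lit 0x22)
 (Net.cons 3 (nat_lit 0x80)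
 (Net.cons 1 (nat_lit 0x208)
 (Net.cons 1 (nat_lit 0x480)
 (Net.cons 1 (nat_lit 0x40)
 (Net.cons 3 (nat_lit 0x141)
 (Net.cons 6 (nat_lit 0x4)
 Net.nil)))))))

noncomputable def MuH0_lb_n : List Net := [Net.nil,
 MuH0_lb_n_1,
 Net.rev MuH0_lb_n_1,
 MuH0_lb_n_3,
 Net.rev MuH0_lb_n_3]

theorem MuH0_lb_n_ok : NetsOK 12 MuH0_lb_n := netsOK_of (by decide +kernel)

theorem MuH0_lb : 12 ≤ Nat.card (cl (gp nets) [1,2,3,4]) :=
  lb_of_itwB (k := 4) (n := 12) nets_ok MuH0_lb_n_ok (by norm_num) (by norm_num) (tbA_pt nets_ok) (tbA_pt MuH0_lb_n_ok) (φ := look2 (nat_lit 0xcc00100000fe000e0000c5001020010b000de00105000a700107000a6) 20 64) (by decide +kernel) (by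
    rw [← cl_eq_of_slpB (k := 4) (D := []) MuH0_lb_n_ok (by norm_num) (by decide +kernel)]
    exact lb_of_chainB MuH0_lb_n_ok (C := [([],[1,3,1,1,1],0,0,12)]) (by decide +kernel))

theorem MuH1_2_ord : Ord.{u} iv MuH1_2_R [1,2] 4 :=
  (MuH1_2_idx.ord_base).of_cons (cons_of_subset (by decide +kernel))

theorem MuH1_1_ord : Ord.{u} iv MuH1_1_R [1,2,7] 36 :=
  (MuH1_1_idx.ord_step MuH1_2_ord).of_cons (cons_of_subset (by decide +kernel))

theorem MuH1_0_ord : Ord.{u} iv MuH1_0_R [1,2,5,7] 72 :=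
  (MuH1_0_idx.ord_step MuH1_1_ord).of_cons (cons_of_subset (by decide +kernel))

noncomputable def MuH1_lb_n_1 : Net :=
 (Net.cons 5 (nat_lit 0x1c)
 (Net.cons 1 (nat_lit 0x1)
 (Net.cons 1 (nat_lit 0x140)
 (Net.cons 1 (nat_lit 0xa0)
 (Net.cons 1 (nat_lit 0x40)
 (Net.cons 5 (nat_lit 0x15)
 Net.nil))))))

noncomputable def MuH1_lb_n_5 : Net :=
 (Net.cons 5 (nat_lit 0x10)
 (Net.cons 1 (nat_lit 0x140)
 (Net.cons 1 (nat_lit 0x80)
 (Net.cons 1 (nat_lit 0x140)
 (Net.cons 5 (nat_lit 0x19)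
 Net.nil)))))

noncomputable def MuH1_lb_n_7 : Net :=
 (Net.cons 1 (nat_lit 0x21)
 (Net.cons 1 (nat_lit 0xa)
 (Net.cons 1 (nat_lit 0x4)
 (Net.cons 1 (nat_lit 0xa)
 (Net.cons 1 (nat_lit 0x1)
 (Net.cons 5 (nat_lit 0xc)
 Net.nil))))))

noncomputable def MuH1_lb_n_64 : Net :=
 (Net.cons 1 (nat_lit 0x80)
 (Net.cons 1 (nat_lit 0x4a)
 (Net.cons 1 (nat_lit 0x24)
 Net.nil)))

noncomputable def MuH1_lb_n_66 : Net :=
 (Net.cons 1 (nat_lit 0x80)
 (Net.cons 1 (nat_lit 0x4a)
 (Net.cons 1 (nat_lit 0x80)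
 Net.nil)))

noncomputable def MuH1_lb_n_67 : Net :=
 (Net.cons 1 (nat_lit 0xa4)
 Net.nil)

noncomputable def MuH1_lb_n : List Net := (apd [Net.nil,
 MuH1_lb_n_1,
 Net.rev MuH1_lb_n_1,
 Net.nil,
 Net.nil,
 MuH1_lb_n_5,
 Net.nil,
 MuH1_lb_n_7,
 Net.nil,
 Net.nil,
 Net.nil,
 Net.nil,
 Net.nil,
 Net.nil,
 Net.nil,
 Net.nil,
 Net.nil,
 Net.nil,
 Net.nil,
 Net.nil,
 Net.nil,
 Net.nil,
 Net.nil,
 Net.nil,
 Net.nil,
 Net.nil,
 Net.nil,
 Net.nil,
 Net.nil,
 Net.nil,
 Net.nil,
 Net.nil,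
 Net.nil,
 Net.nil,
 Net.nil,
 Net.nil,
 Net.nil,
 Net.nil,
 Net.nil,
 Net.nil]
 [Net.nil,
 Net.nil,
 Net.nil,
 Net.nil,
 Net.nil,
 Net.nil,
 Net.nil,
 Net.nil,
 Net.nil,
 Net.nil,
 Net.nil,
 Net.nil,
 Net.nil,
 Net.nil,
 Net.nil,
 Net.nil,
 Net.nil,
 Net.nil,
 Net.nil,
 Net.nil,
 Net.nil,
 Net.nil,
 Net.nil,
 Net.nil,
 MuH1_lb_n_64,
 Net.rev MuH1_lb_n_64,
 MuH1_lb_n_66,
 MuH1_lb_n_67])

theorem MuH1_lb_n_ok : NetsOK 10 MuH1_lb_n := netsOK_of (by decide +kernel)

theorem MuH1_lb : 72 ≤ Nat.card (cl (gp nets) [1,2,5,7]) :=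
  lb_of_itwB (k := 4) (n := 9) nets_ok MuH1_lb_n_ok (by norm_num) (by norm_num) (tbA_pt nets_ok) (tbA_pt MuH1_lb_n_ok) (φ := look2 (nat_lit 0x5b0001f00085000450001a0001e000230002b00010) 20 64) (by decide +kernel) (by
    rw [← cl_eq_of_slpB (k := 4) (D := [(64,[2,7,2,7,1]),
 (65,[2,7,1,7,1]),
 (66,[5,2,2]),
 (67,[65,66])]) MuH1_lb_n_ok (by norm_num) (by decide +kernel)]
    exact lb_of_chainB MuH1_lb_n_ok (C := [([64,65,66,67],[1,7,1,64],0,0,9),
 ([67],[64,64,64],1,1,4),
 ([],[67],2,2,2)]) (by decide +kernel))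

theorem MuH2_2_ord : Ord.{u} iv MuH2_2_R [3,4] 3 :=
  (MuH2_2_idx.ord_base).of_cons (cons_of_subset (by decide +kernel))

theorem MuH2_1_ord : Ord.{u} iv MuH2_1_R [3,4,5] 18 :=
  (MuH2_1_idx.ord_step MuH2_2_ord).of_cons (cons_of_subset (by decide +kernel))

theorem MuH2_0_ord : Ord.{u} iv MuH2_0_R [1,2,3,4,5] 72 :=
  (MuH2_0_idx.ord_step MuH2_1_ord).of_cons (cons_of_subset (by decide +kernel))

noncomputable def MuH2_lb_n_1 : Net :=
 (Net.cons 20 (nat_lit 0xa4b72)
 (Net.cons 10 (nat_lit 0x3a0002e6)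
 (Net.cons 5 (nat_lit 0x380404804)
 (Net.cons 1 (nat_lit 0x940528400)
 (Net.cons 1 (nat_lit 0x5094a5084a)
 (Net.cons 1 (nat_lit 0x204a529404)
 (Net.cons 1 (nat_lit 0x5010a5000a)
 (Net.cons 1 (nat_lit 0x400001)
 (Net.cons 5 (nat_lit 0x80303c0d)
 (Net.cons 10 (nat_lit 0x117002fc)
 (Net.cons 20 (nat_lit 0xa54a9)
 Net.nil)))))))))))

noncomputable def MuH2_lb_n_3 : Net :=
 (Net.cons 20 (nat_lit 0x7418e)
 (Net.cons 10 (nat_lit 0x294002d0)
 (Net.cons 5 (nat_lit 0x701806008)
 (Net.cons 1 (nat_lit 0x29084084a0)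
 (Net.cons 1 (nat_lit 0x1284040848)
 (Net.cons 1 (nat_lit 0x294a0204a4)
 (Net.cons 1 (nat_lit 0x5290010000)
 (Net.cons 1 (nat_lit 0x2040000000)
 (Net.cons 5 (nat_lit 0x41706818)
 (Net.cons 10 (nat_lit 0x2d3002fb)
 (Net.cons 20 (nat_lit 0x72aba)
 Net.nil)))))))))))

noncomputable def MuH2_lb_n_5 : Net :=
 (Net.cons 20 (nat_lit 0x324f2)
 (Net.cons 10 (nat_lit 0xc00148)
 (Net.cons 5 (nat_lit 0x401005002)
 (Net.cons 1 (nat_lit 0x8509081)
 (Net.cons 1 (nat_lit 0x5090852942)
 (Net.cons 1 (nat_lit 0x21484294a5)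
 (Net.cons 1 (nat_lit 0x4084012948)
 (Net.cons 1 (nat_lit 0x9000)
 (Net.cons 5 (nat_lit 0x40180740f)
 (Net.cons 10 (nat_lit 0xfc00059)
 (Net.cons 20 (nat_lit 0x324f2)
 Net.nil)))))))))))

noncomputable def MuH2_lb_n_64 : Net :=
 (Net.cons 5 (nat_lit 0x400a02800)
 (Net.cons 1 (nat_lit 0x942008000)
 (Net.cons 1 (nat_lit 0x5004812102)
 (Net.cons 1 (nat_lit 0x2008421000)
 (Net.cons 1 (nat_lit 0x5010240800)
 (Net.cons 1 (nat_lit 0x800100400)
 (Net.cons 5 (nat_lit 0x401505400)
 Net.nil)))))))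

noncomputable def MuH2_lb_n : List Net := (apd [Net.nil,
 MuH2_lb_n_1,
 Net.rev MuH2_lb_n_1,
 MuH2_lb_n_3,
 Net.rev MuH2_lb_n_3,
 MuH2_lb_n_5,
 Net.nil,
 Net.nil,
 Net.nil,
 Net.nil,
 Net.nil,
 Net.nil,
 Net.nil,
 Net.nil,
 Net.nil,
 Net.nil,
 Net.nil,
 Net.nil,
 Net.nil,
 Net.nil,
 Net.nil,
 Net.nil,
 Net.nil,
 Net.nil,
 Net.nil,
 Net.nil,
 Net.nil,
 Net.nil,
 Net.nil,
 Net.nil,
 Net.nil,
 Net.nil,
 Net.nil,
 Net.nil,
 Net.nil,
 Net.nil,
 Net.nil,
 Net.nil,
 Net.nil,
 Net.nil]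
 [Net.nil,
 Net.nil,
 Net.nil,
 Net.nil,
 Net.nil,
 Net.nil,
 Net.nil,
 Net.nil,
 Net.nil,
 Net.nil,
 Net.nil,
 Net.nil,
 Net.nil,
 Net.nil,
 Net.nil,
 Net.nil,
 Net.nil,
 Net.nil,
 Net.nil,
 Net.nil,
 Net.nil,
 Net.nil,
 Net.nil,
 Net.nil,
 MuH2_lb_n_64])

theorem MuH2_lb_n_ok : NetsOK 40 MuH2_lb_n := netsOK_of (by decide +kernel)

theorem MuH2_lb : 72 ≤ Nat.card (cl (gp nets) [1,2,3,4,5]) :=
  lb_of_itwB (k := 6) (n := 36) nets_ok MuH2_lb_n_ok (by norm_num) (by norm_num) (tbA_pt nets_ok) (tbA_pt MuH2_lb_n_ok) (φ := look2 (nat_lit 0x1d0004e0005d000630002f0001e0009d00083000970007c0003b00033000600001a0000500006000120005b0005e000280000200004000a2000a10008800085000320003a0000a00003000780007e000310003f0003e00001) 20 64) (by decide +kernel) (by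
    rw [← cl_eq_of_slpB (k := 6) (D := [(64,[1,4,5,4,2,2])]) MuH2_lb_n_ok (by norm_num) (by decide +kernel)]
    exact lb_of_chainB MuH2_lb_n_ok (C := [([64],[1,3,5,64,1,1,1],0,0,36),
 ([],[64],1,1,2)]) (by decide +kernel))

theorem MuH3_4_ord : Ord.{u} iv MuH3_4_R [3,4] 3 :=
  (MuH3_4_idx.ord_base).of_cons (cons_of_subset (by decide +kernel))

theorem MuH3_3_ord : Ord.{u} iv MuH3_3_R [3,4,5] 18 :=
  (MuH3_3_idx.ord_step MuH3_4_ord).of_cons (cons_of_subset (by decide +kernel))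

theorem MuH3_2_ord : Ord.{u} iv MuH3_2_R [1,2,3,4,5] 72 :=
  (MuH3_2_idx.ord_step MuH3_3_ord).of_cons (cons_of_subset (by decide +kernel))

theorem MuH3_1_ord : Ord.{u} iv MuH3_1_R [1,2,3,4,5,6] 1152 :=
  (MuH3_1_idx.ord_step MuH3_2_ord).of_cons (cons_of_subset (by decide +kernel))

theorem MuH3_0_ord : Ord.{u} iv MuH3_0_R [1,2,3,4,5,6,8] 40320 :=
  (MuH3_0_idx.ord_step MuH3_1_ord).of_cons (cons_of_subset (by decide +kernel))

noncomputable def MuH3_lb_n_1 : Net :=
 (Net.cons 128 (nat_lit 0x1f6dac49753720bbf9bca099bf96c108)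
 (Net.cons 64 (nat_lit 0x9cfa5f7a881e0ec0000000000000000095fb2ad440d2fca8)
 (Net.cons 32 (nat_lit 0x9f5e2d3a0000000062632c9e00000000c9db4c9800000000c4bc42e0)
 (Net.cons 16 (nat_lit 0xefda000038880000860400003988000082b80000972200003eaa00008608)
 (Net.cons 8 (nat_lit 0x9c0026000800c2007c0014008000de0098009200f800ec00c400b60058004e)
 (Net.cons 4 (nat_lit 0xc02020408040c06000800020c0e0002020e06040204080a04000402000a0000)
 (Net.cons 2 (nat_lit 0x2020000020200002220020220002000220022000020020002000202002202002)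
 (Net.cons 1 (nat_lit 0x1045050445105041410040141544150110011010110044404014154054141001)
 (Net.cons 2 (nat_lit 0x320020113210201013031103103330022010130310130301022120131001110)
 (Net.cons 4 (nat_lit 0xb0101090b0d0c0a0e0a04020f060b0a0806080508060d030e0c060c06070009)
 (Net.cons 8 (nat_lit 0x53003300ef0075007d003600990056002200da0018002c00f4005a008c00ed)
 (Net.cons 16 (nat_lit 0x73bf00009b34000099430000635c00007efb0000e5ab0000b0900000af88)
 (Net.cons 32 (nat_lit 0x9f454d6700000000620e28d500000000b9fb0987000000002eb89404)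
 (Net.cons 64 (nat_lit 0x8e9adebbae23f8a7000000000000000035f97699cdd74840)
 (Net.cons 128 (nat_lit 0x1f6d11d1e9583cb24d285d544aedf940)
 Net.nil)))))))))))))))

noncomputable def MuH3_lb_n_3 : Net :=
 (Net.cons 128 (nat_lit 0x12b70c1f5f3de7680819ebcfe97e5cd8)
 (Net.cons 64 (nat_lit 0x2247832bb69f9eb600000000000000001e6669590f861eec)
 (Net.cons 32 (nat_lit 0xe1e9310400000000db6b78c000000000b9590c2800000000ccdda202)
 (Net.cons 16 (nat_lit 0x5b7a0000929400002cf80000930400005ee000001f6c00000700000084b2)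
 (Net.cons 8 (nat_lit 0x200028009000400048007000b80018001800e400c8004000540070001a0064)
 (Net.cons 4 (nat_lit 0x208000604060000000200000000000e0c0c080400080802000000020804040c)
 (Net.cons 2 (nat_lit 0x2000000200202200020022200222200020220000002022002002000002000020)
 (Net.cons 1 (nat_lit 0x4101141450404400441441145411141514415041044411144001501551114044)
 (Net.cons 2 (nat_lit 0x220320212013112322030232103101233200132210001011202211213212131)
 (Net.cons 4 (nat_lit 0xa010206050603070e0a0d020b02090c000e0a080e0b0c0a0c050303070e0c)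
 (Net.cons 8 (nat_lit 0x58003c00a6001200e0002300a3003d005100ab00e20014009100b400400005)
 (Net.cons 16 (nat_lit 0xbae00008cf3000063fc00000cbe0000fdad0000e0860000669d0000a341)
 (Net.cons 32 (nat_lit 0xd10d152200000000d3c20f8e000000009f374878000000000d147fee)
 (Net.cons 64 (nat_lit 0x32628203579054b600000000000000003a66e1851371e423)
 (Net.cons 128 (nat_lit 0x12b7d80f23004ab4119dc8b0843a3704)
 Net.nil)))))))))))))))

noncomputable def MuH3_lb_n_5 : Net :=
 (Net.cons 128 (nat_lit 0x660844008e35f9a0832462f0c9804268)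
 (Net.cons 64 (nat_lit 0xe6ae3b9aa0aec24000000000000000000d0ae7984f85cc20)
 (Net.cons 32 (nat_lit 0x5c7017e8000000006a5ba1300000000082cc5c0000000000b008c100)
 (Net.cons 16 (nat_lit 0xe1920000570800008d8000003d540000f2c4000037000000873a00003a86)
 (Net.cons 8 (nat_lit 0x4a008e00b8004c001800480068009e00d400900080007c00800010000400c0)
 (Net.cons 4 (nat_lit 0x808000002000a000c060004040c080006040202020600000206020200080c00)
 (Net.cons 2 (nat_lit 0x20020000000000000000200000000000020020020022000000020002200220)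
 (Net.cons 1 (nat_lit 0x4010540445000104051004440450550014411010111511541450115454454444)
 (Net.cons 2 (nat_lit 0x22022000202000230100202001123120000122200322000001200012220220)
 (Net.cons 4 (nat_lit 0x70e080702010e030c0e0204050c07050b090a060c070d00020e0902030d0501)
 (Net.cons 8 (nat_lit 0xca004600ba00cc001800590068009e002b0090009b007c002c001000f3005d)
 (Net.cons 16 (nat_lit 0x677a0000570800008d800000bf740000f2c4000037000000873a00003a86)
 (Net.cons 32 (nat_lit 0x5c7017e8000000006a5ba1300000000082cc5c0000000000b0884508)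
 (Net.cons 64 (nat_lit 0xe6ae3b9aa0aec24000000000000000000d0ae7984f85cc20)
 (Net.cons 128 (nat_lit 0x660844008e35f9a0832462f0c9804268)
 Net.nil)))))))))))))))

noncomputable def MuH3_lb_n_6 : Net :=
 (Net.cons 128 (nat_lit 0x84cd9b254ae41b5351e7b78835a01000)
 (Net.cons 64 (nat_lit 0x9f8cb776279e7500000000000000000074d03847a09efc00)
 (Net.cons 32 (nat_lit 0xa80a8c02000000008360a52c0000000083c00c880000000047c11b80)
 (Net.cons 16 (nat_lit 0xe0000008c580000ca0400002dae0000ec1a0000419800000cc400000000)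
 (Net.cons 8 (nat_lit 0x1000b200d000bc0022003000c000080004004000a400b0003e00b600a000c4)
 (Net.cons 4 (nat_lit 0x8040402040002080200000e080c040c02020a060c0a02040002000a0a000400)
 (Net.cons 2 (nat_lit 0x2000000022000000000200200020002002002200020002220200000002000)
 (Net.cons 1 (nat_lit 0x41505044514014010051404105445551541544444114111445445001004005)
 (Net.cons 2 (nat_lit 0x2102321102332121001130230230200302303103200023121220100120002233)
 (Net.cons 4 (nat_lit 0x80d0500010802020202000e080c0a0c020207060d0a02070002000a0a0a0500)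
 (Net.cons 8 (nat_lit 0x17003100c000bc00aa003000c000080024002300a400dd00be003600b000c4)
 (Net.cons 16 (nat_lit 0xe8d000001510000ce040000fdae0000ec0a000043880000cc7400000000)
 (Net.cons 32 (nat_lit 0xb3c6395d000000008360a52c0000000083500c980000000047c11b80)
 (Net.cons 64 (nat_lit 0x9f8cb776279e7500000000000000000074d03847a09efc00)
 (Net.cons 128 (nat_lit 0x84cdbb254ae41b5351e7b78835a01000)
 Net.nil)))))))))))))))

noncomputable def MuH3_lb_n_8 : Net :=
 (Net.cons 128 (nat_lit 0xffffffffffef88000000000000000000)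
 (Net.cons 64 (nat_lit 0x5aa2d61ea590ce2c00000000000000006000000000000000)
 (Net.cons 32 (nat_lit 0x60d5b6000000000012e2967200000000e80000000000000007c7e30c)
 (Net.cons 16 (nat_lit 0xf8300000962a000060a2000037a0000000000000d400000008e80000fa08)
 (Net.cons 8 (nat_lit 0x26005800c800ea006800ec0070002e00000030000200e4000800480014000a)
 (Net.cons 4 (nat_lit 0x40c080c00000c0a00000808040008080c0000000800000c000000000a0c0000)
 (Net.cons 2 (nat_lit 0x2002222200020000000000020000000000000000002000002200000000000200)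
 (Net.cons 1 (nat_lit 0x1554441451510450511555440005111404001404054500501455545010001111)
 (Net.cons 2 (nat_lit 0x1121211202303033031001330132210320003330132020312221102003030200)
 (Net.cons 4 (nat_lit 0x10a030700000c0a080300040a0809040c000f000a00000e000f00000a0c0000)
 (Net.cons 8 (nat_lit 0xd900a700c700ea00c8007b0071009700000030000200e4000800bb001c00ce)
 (Net.cons 16 (nat_lit 0xf8300000962a0000914b0000136f000000000000f002000008e80000fa08)
 (Net.cons 32 (nat_lit 0x60d5b6000000000025491fe600000000e80000000000000007c7e30c)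
 (Net.cons 64 (nat_lit 0x5aa2d61ea590ce2c00000000000000006000000000000000)
 (Net.cons 128 (nat_lit 0xffffffffffef88000000000000000000)
 Net.nil)))))))))))))))

noncomputable def MuH3_lb_n_64 : Net :=
 (Net.cons 128 (nat_lit 0xfffc0000000000000000000000000000)
 (Net.cons 64 (nat_lit 0x5fbfe019ec5124200000000000000000fc00000000000000)
 (Net.cons 32 (nat_lit 0xddcea20600000000ccfdc752000000005fc0000000000000446ce5b6)
 (Net.cons 16 (nat_lit 0xaca20000e2ca0000c66c00007d7c0000e1620000ff000000989c00004886)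
 (Net.cons 8 (nat_lit 0x20000c003800580060004200ee00140056005a00ec00680066000000f400a8)
 (Net.cons 4 (nat_lit 0x20a000a00000c0000080608020c08000004000c0e0808000208040c0a08020c)
 (Net.cons 2 (nat_lit 0x22000022000020200020200002020022022000000220200002200000222020)
 (Net.cons 1 (nat_lit 0x1444155044005045144415100504411441141045510144100541400550411140)
 (Net.cons 2 (nat_lit 0x2021011112332333211013111132001300021012303330131313210233302110)
 (Net.cons 4 (nat_lit 0x409040e030e060f0e080f000d0a030f0a0309050e0e040a0d00020c01020a0a)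
 (Net.cons 8 (nat_lit 0xee00ec00f700bd00c4000400aa00e60095004000c000dc00fb006100870036)
 (Net.cons 16 (nat_lit 0x8b74000086e20000c2d90000cf7000003fa10000ff0000009c3100004390)
 (Net.cons 32 (nat_lit 0xabfadc580000000055d9c96200000000f7c0004000000000443ab914)
 (Net.cons 64 (nat_lit 0xfddf2cd7611051110000000000000000fc00000000000000)
 (Net.cons 128 (nat_lit 0xfffc0000000000000000000000000000)
 Net.nil)))))))))))))))

noncomputable def MuH3_lb_n_66 : Net :=
 (Net.cons 128 (nat_lit 0xd7880000000000000000000000000000)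
 (Net.cons 64 (nat_lit 0xdfedd4000000000000000000000000006004060400000028)
 (Net.cons 32 (nat_lit 0xdefdd780000000009c99990000000000b7401288000000005948c812)
 (Net.cons 16 (nat_lit 0x2bec00001a400000d6c800002e080000697200006c000000d440000088c4)
 (Net.cons 8 (nat_lit 0x10003400640020002800a0004400f0002800880048002000200022005600b0)
 (Net.cons 4 (nat_lit 0x2040e00040008000804040c0e0408000004000c040a080002020a0e0c0c0404)
 (Net.cons 2 (nat_lit 0x2022000000000000000000002000200000020200202000002200000022002)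
 (Net.cons 1 (nat_lit 0x1501441005040400000055404014145100155510400401110104155051511554)
 (Net.cons 2 (nat_lit 0x312303313000020020130023032003200030021203212001012203202200120)
 (Net.cons 4 (nat_lit 0x2040808040208040d0e040c040e08020704030c040a0a0b0a0a0a0e080f0902)
 (Net.cons 8 (nat_lit 0xd900ee00e4002a002800a000fa00f0002800880048002000a8007a00d8004e)
 (Net.cons 16 (nat_lit 0x2bec00005a610000d6d800004f0a0000e97600006c000000d56300009506)
 (Net.cons 32 (nat_lit 0xdefdd780000000009c99990000000000b7401288000000005948c812)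
 (Net.cons 64 (nat_lit 0xdfedd4000000000000000000000000006004060400000028)
 (Net.cons 128 (nat_lit 0xd7880000000000000000000000000000)
 Net.nil)))))))))))))))

noncomputable def MuH3_lb_n_67 : Net :=
 (Net.cons 128 (nat_lit 0x80000000000000000000000000000000)
 (Net.cons 64 (nat_lit 0xe00000000000000000000000000000008000000000000000)
 (Net.cons 32 (nat_lit 0x40000000000000000000000000000000b800000000000000e0000000)
 (Net.cons 16 (nat_lit 0xe0000000ed4000000000000000000000a0000000b4000000800000008000)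
 (Net.cons 8 (nat_lit 0xd400000000004c007000e800540060002600c0004000a000a000d0)
 (Net.cons 4 (nat_lit 0x204000e0402000c000e0a00020c0e08020a000200000c0e060806060408)
 (Net.cons 2 (nat_lit 0x2000222020200222002220002002002020020200202000200000)
 (Net.cons 1 (nat_lit 0x4000055111511554114515115111544111451511551044511115451450455140)
 (Net.cons 2 (nat_lit 0x2000311333031103211312033111231003321231223310310330131323130330)
 (Net.cons 4 (nat_lit 0x509090d0901090a080c0c09090c0c0c090c080b00090c0d0f040b0f0808)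
 (Net.cons 8 (nat_lit 0x8100b800000081009600a800f000a60090009300a0008000c000c000e0)
 (Net.cons 16 (nat_lit 0xe0000000db8000008001000080010000c0000000d8000000400000008000)
 (Net.cons 32 (nat_lit 0x80000000000000008000000100000000d400000000000000d0000000)
 (Net.cons 64 (nat_lit 0xe00000000000000000000000000000008000000000000000)
 (Net.cons 128 (nat_lit 0x80000000000000000000000000000000)
 Net.nil)))))))))))))))

noncomputable def MuH3_lb_n : List Net := (apd [Net.nil,
 MuH3_lb_n_1,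
 Net.rev MuH3_lb_n_1,
 MuH3_lb_n_3,
 Net.rev MuH3_lb_n_3,
 MuH3_lb_n_5,
 MuH3_lb_n_6,
 Net.nil,
 MuH3_lb_n_8,
 Net.nil,
 Net.nil,
 Net.nil,
 Net.nil,
 Net.nil,
 Net.nil,
 Net.nil,
 Net.nil,
 Net.nil,
 Net.nil,
 Net.nil,
 Net.nil,
 Net.nil,
 Net.nil,
 Net.nil,
 Net.nil,
 Net.nil,
 Net.nil,
 Net.nil,
 Net.nil,
 Net.nil,
 Net.nil,
 Net.nil,
 Net.nil,
 Net.nil,
 Net.nil,
 Net.nil,
 Net.nil,
 Net.nil,
 Net.nil,
 Net.nil]
 [Net.nil,
 Net.nil,
 Net.nil,
 Net.nil,
 Net.nil,
 Net.nil,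
 Net.nil,
 Net.nil,
 Net.nil,
 Net.nil,
 Net.nil,
 Net.nil,
 Net.nil,
 Net.nil,
 Net.nil,
 Net.nil,
 Net.nil,
 Net.nil,
 Net.nil,
 Net.nil,
 Net.nil,
 Net.nil,
 Net.nil,
 Net.nil,
 MuH3_lb_n_64,
 Net.rev MuH3_lb_n_64,
 MuH3_lb_n_66,
 MuH3_lb_n_67,
 Net.rev MuH3_lb_n_67])

theorem MuH3_lb_n_ok : NetsOK 256 MuH3_lb_n := netsOK_of (by decide +kernel)

theorem MuH3_lb : 40320 ≤ Nat.card (cl (gp nets) [1,2,3,4,5,6,8]) :=
  lb_of_itwB (k := 8) (n := 240) nets_ok MuH3_lb_n_ok (by norm_num) (by norm_num) (tbA_pt nets_ok) (tbA_pt MuH3_lb_n_ok) (φ := look2 (nat_lit 0x9a000e6000ea0006f000f70010d00082000fb000db000a0000f9000f600102000970009600100001030009d000df000730008e001110010400076000ed000f30006b00087000e40009c000e2000f800074000f2001100009b0009f000e00008300105000e50007c000ca000560004b00062000d800053000c6000cd00015000cb00051000a7000ac00050000d900041000d000024000cc000290005d0004a00030000d5000c20000a0006300061000b6000160000f0002a000a6000aa000ab00007000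b400044000b90000c00019000ce0002f000c5000b700003000b0000540001e000c80002100064000090006a000b30004200095000f10007a0010e000ee0006d00107000dd0007000090000e3000750008b000930010c0008c0007f000e10009e000de000a2000ec000fa0008f000eb00078000a10008900080000dc0006c0007b000e70008a00101000ef0006e0010b00098000fc000770010a000790008d001120007d00072000880010f000fe000ff0007e0009200109000860008500065000c30001d00025000d70004e00034000b10005500052000d20005a000590006900013000a8000350001c0000b000be0002b000c10000200023000bc000040002700046000310005f000390003b00068000320002e00014000670003f000a300049000c40004300005000570004c00018000d30000d00037000b80003600008000bd000110004d000c9000cf0001700040000b5000c70002d00010000a500033000af000380001a000a4000600005e00045000bf00006000d10001b0005b000ae000120002800058000b2000480003a0003e00001) 20 64) (by decide +kernel) (by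
    rw [← cl_eq_of_slpB (k := 8) (D := [(64,[4,5,3,8,3,5,3,5,3,6,3,5]),
 (65,[5,4,6,4,5,4,5,4,8,4,5,3]),
 (66,[2,3,2,6,3]),
 (67,[65,66,64,64,66,65]),
 (68,[64,66,65,65,66,64])]) MuH3_lb_n_ok (by norm_num) (by decide +kernel)]
    exact lb_of_chainB MuH3_lb_n_ok (C := [([64,65,66,67,68],[1,3,5,6,66,67,1,3,5,64,1],0,0,240),
 ([67,68],[64,66,64,67,64,67,64,66,64],1,1,56),
 ([],[67,67],86,86,3)]) (by decide +kernel))

theorem MuH4_3_ord : Ord.{u} iv MuH4_3_R [1,2] 4 :=
  (MuH4_3_idx.ord_base).of_cons (cons_of_subset (by decide +kernel))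

theorem MuH4_2_ord : Ord.{u} iv MuH4_2_R [1,2,7] 36 :=
  (MuH4_2_idx.ord_step MuH4_3_ord).of_cons (cons_of_subset (by decide +kernel))

theorem MuH4_1_ord : Ord.{u} iv MuH4_1_R [1,2,7,8] 360 :=
  (MuH4_1_idx.ord_step MuH4_2_ord).of_cons (cons_of_subset (by decide +kernel))

theorem MuH4_0_ord : Ord.{u} iv MuH4_0_R [1,2,5,7,8] 720 :=
  (MuH4_0_idx.ord_step MuH4_1_ord).of_cons (cons_of_subset (by decide +kernel))

noncomputable def MuH4_lb_n_1 : Net :=
 (Net.cons 5 (nat_lit 0x1e)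
 (Net.cons 1 (nat_lit 0xa4)
 (Net.cons 1 (nat_lit 0x14a)
 (Net.cons 1 (nat_lit 0xa0)
 (Net.cons 1 (nat_lit 0x100)
 (Net.cons 5 (nat_lit 0x1e)
 Net.nil))))))

noncomputable def MuH4_lb_n_5 : Net :=
 (Net.cons 1 (nat_lit 0x148)
 Net.nil)

noncomputable def MuH4_lb_n_7 : Net :=
 (Net.cons 5 (nat_lit 0x18)
 (Net.cons 1 (nat_lit 0x80)
 (Net.cons 1 (nat_lit 0x14a)
 (Net.cons 1 (nat_lit 0x80)
 (Net.cons 5 (nat_lit 0x18)
 Net.nil)))))

noncomputable def MuH4_lb_n_8 : Net :=
 (Net.cons 1 (nat_lit 0x81)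
 (Net.cons 1 (nat_lit 0x148)
 (Net.cons 1 (nat_lit 0x80)
 Net.nil)))

noncomputable def MuH4_lb_n : List Net := [Net.nil,
 MuH4_lb_n_1,
 Net.rev MuH4_lb_n_1,
 Net.nil,
 Net.nil,
 MuH4_lb_n_5,
 Net.nil,
 MuH4_lb_n_7,
 MuH4_lb_n_8]

theorem MuH4_lb_n_ok : NetsOK 10 MuH4_lb_n := netsOK_of (by decide +kernel)

theorem MuH4_lb : 720 ≤ Nat.card (cl (gp nets) [1,2,5,7,8]) :=
  lb_of_itwB (k := 4) (n := 10) nets_ok MuH4_lb_n_ok (by norm_num) (by norm_num) (tbA_pt nets_ok) (tbA_pt MuH4_lb_n_ok) (φ := look2 (nat_lit 0x5300056000750007a0009f0009e00029000960003d00000) 20 64) (by decide +kernel) (by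
    rw [← cl_eq_of_slpB (k := 4) (D := []) MuH4_lb_n_ok (by norm_num) (by decide +kernel)]
    exact lb_of_chainB MuH4_lb_n_ok (C := [([1,2,5,7],[8,7,1,1,1,7,8],0,0,10),
 ([1,2,5],[7,1,1,1,7,1,1],1,1,9),
 ([5],[1,1,1],2,2,4),
 ([],[5],3,3,2)]) (by decide +kernel))

theorem Mu_mb : MB (cl (gp nets) L) 6930 3 :=
  mb_cyc (w := 34) (n := 33) (La := L) (ix := nth 0 [0,0,0,0,0,3,6,12,20]) (by norm_num) (by norm_num) (nets_iv.sval _) (nets_rel.sval fun r hr x hx => mem_cl (sub_of_allR (by decide +kernel) r hr x hx)) (by decide +kernel)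
    (TStep.trans (TStep.trans (TStep.trans (TStep.trans (TStep.trans (TStep.trans (TStep.trans (TStep.trans (TStep.trans (TStep.trans (TStep.trans (TStep.trans (TStep.trans (TStep.trans (TStep.trans (TStep.trans (TStep.trans (TStep.trans (TStep.trans (TStep.trans (TStep.trans (TStep.trans (TStep.trans (TStep.trans (TStep.trans (TStep.trans (TStep.trans (TStep.trans (TStep.trans (TStep.repar (k' := 27) (by norm_num) (by norm_num) (by decide +kernel) (by decide +kernel) Mu1_b)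
    (TStep.enum0 (by norm_num) (by norm_num) Mu2_0 (Gs := Mu2G) (by decide +kernel)))
    (TStep.repar (k' := 24) (by norm_num) (by norm_num) (by decide +kernel) (by decide +kernel) Mu3_b))
    (TStep.enum0 (by norm_num) (by norm_num) Mu4_0 (Gs := Mu4G) (by decide +kernel)))
    (TStep.repar (k' := 23) (by norm_num) (by norm_num) (by decide +kernel) (by decide +kernel) Mu5_b))
    (TStep.enum0 (by norm_num) (by norm_num) Mu6_0 (Gs := Mu6G) (by decide +kernel)))
    (TStep.repar (k' := 20) (by norm_num) (by norm_num) (by decide +kernel) (by decide +kernel) Mu7_b))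
    (TStep.enum0 (by norm_num) (by norm_num) Mu8_0 (Gs := Mu8G) (by decide +kernel)))
    (TStep.repar (k' := 15) (by norm_num) (by norm_num) (by decide +kernel) (by decide +kernel) Mu9_b))
    (TStep.enum0 (by norm_num) (by norm_num) Mu10_0 (Gs := Mu10G) (by decide +kernel)))
    (TStep.repar (k' := 11) (by norm_num) (by norm_num) (by decide +kernel) (by decide +kernel) Mu11_b))
    (TStep.repar (k' := 11) (by norm_num) (by norm_num) (by decide +kernel) (by decide +kernel) Mu12_b))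
    (TStep.enum (by norm_num) (by norm_num) Mu13_0 (I := [0,1,2,31,32]) (by decide +kernel) (by decide +kernel) MuH0_0_ord (c := 1) (lb_sval (fun _ hx => mem_cl (sub_of_subB (by decide +kernel) _ hx)) MuH0_lb (by norm_num)) (Gs := Mu13G) (by decide +kernel)))
    (TStep.repar (k' := 7) (by norm_num) (by norm_num) (by decide +kernel) (by decide +kernel) Mu14_b))
    (TStep.enum (by norm_num) (by norm_num) Mu15_0 (I := [1,3,4,12,13,15,16,31]) (by decide +kernel) (by decide +kernel) MuH1_0_ord (c := 1) (lb_sval (fun _ hx => mem_cl (sub_of_subB (by decide +kernel) _ hx)) MuH1_lb (by norm_num)) (Gs := Mu15G) (by decide +kernel)))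
    (TStep.repar (k' := 7) (by norm_num) (by norm_num) (by decide +kernel) (by decide +kernel) Mu16_b))
    (TStep.enum (by norm_num) (by norm_num) Mu17_0 (I := [0,1,2,3,4,5,31,32]) (by decide +kernel) (by decide +kernel) MuH2_0_ord (c := 1) (lb_sval (fun _ hx => mem_cl (sub_of_subB (by decide +kernel) _ hx)) MuH2_lb (by norm_num)) (Gs := Mu17G) (by decide +kernel)))
    (TStep.repar (k' := 5) (by norm_num) (by norm_num) (by decide +kernel) (by decide +kernel) Mu18_b))
    (TStep.repar (k' := 5) (by norm_num) (by norm_num) (by decide +kernel) (by decide +kernel) Mu19_b))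
    (TStep.enum (by norm_num) (by norm_num) Mu20_0 (I := [0,1,2,3,4,5,6,7,8,9,10,11,20,21,22,23,24,25,26,27,31,32]) (by decide +kernel) (by decide +kernel) MuH3_0_ord (c := 1) (lb_sval (fun _ hx => mem_cl (sub_of_subB (by decide +kernel) _ hx)) MuH3_lb (by norm_num)) (Gs := Mu20G) (by decide +kernel)))
    (TStep.repar (k' := 4) (by norm_num) (by norm_num) (by decide +kernel) (by decide +kernel) Mu21_b))
    (TStep.repar (k' := 4) (by norm_num) (by norm_num) (by decide +kernel) (by decide +kernel) Mu22_b))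
    (TStep.enum (by norm_num) (by norm_num) Mu23_0 (I := [1,3,4,12,13,15,16,20,21,22,28,30,31]) (by decide +kernel) (by decide +kernel) MuH4_0_ord (c := 1) (lb_sval (fun _ hx => mem_cl (sub_of_subB (by decide +kernel) _ hx)) MuH4_lb (by norm_num)) (Gs := Mu23G) (by decide +kernel)))
    (TStep.repar (k' := 3) (by norm_num) (by norm_num) (by decide +kernel) (by decide +kernel) Mu24_b))
    (TStep.repar (k' := 3) (by norm_num) (by norm_num) (by decide +kernel) (by decide +kernel) Mu25_b))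
    (TStep.enum (by norm_num) (by norm_num) Mu26_0 (I := [0,1,2,3,4,5,6,7,8,9,10,11,20,21,22,23,24,25,26,27,31,32]) (by decide +kernel) (by decide +kernel) MuH3_0_ord (c := 1) (lb_sval (fun _ hx => mem_cl (sub_of_subB (by decide +kernel) _ hx)) MuH3_lb (by norm_num)) (Gs := Mu26G) (by decide +kernel)))
    (TStep.repar (k' := 2) (by norm_num) (by norm_num) (by decide +kernel) (by decide +kernel) Mu27_b))
    (TStep.enum (by norm_num) (by norm_num) Mu28_0 (I := [0,1,2,3,4,5,6,7,8,9,10,11,20,21,22,23,24,25,26,27,31,32]) (by decide +kernel) (by decide +kernel) MuH3_0_ord (c := 1) (lb_sval (fun _ hx => mem_cl (sub_of_subB (by decide +kernel) _ hx)) MuH3_lb (by norm_num)) (Gs := Mu28G) (by decide +kernel)))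
    (TStep.repar (k' := 1) (by norm_num) (by norm_num) (by decide +kernel) (by decide +kernel) Mu29_b))
    (TStep.cons (by norm_num) (by norm_num) (c := (nat_lit 0x1)) (v := 3) (by decide +kernel) (by decide +kernel)))
    (by norm_num) List.mem_cons_self (by norm_num)
    (TStep.repar (k' := 0) (by norm_num) (by norm_num) (by decide +kernel) (by decide +kernel) Mu31_b)
    (L := [1,2,3,4,5,6,7,8]) (I := [0,1,2,3,4,5,6,7,8,9,10,11,12,13,14,15,16,17,18,19,20,21,22,23,24,25,26,27,28,29,30,31,32]) (by decide +kernel) (by decide +kernel) ord card.ge (cl_sval_top _ _)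

end Cfsg.Lib.Comp.McLy
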